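import Groth.Agent.ProjCoord.Extra

/-!
# Lifting points of projective space along a change of base ring
-/

noncomputable section

universe u

open CategoryTheory CategoryTheory.Limits AlgebraicGeometry HomogeneousLocalization MvPolynomial CohB1
open Groth.Agent.ProjCoord

namespace Groth.Agent.ChowLib

variable {A B : Type u} [CommRing A] [CommRing B] {N : ℕ} {T : Scheme.{u}}

/-- The ring map given by a morphism to an affine scheme. -/
abbrev baseRing (p : T ⟶ Spec (CommRingCat.of B)) : B →+* Γ(T, ⊤) :=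
  p.appTop.hom.comp (Scheme.ΓSpecIso (CommRingCat.of B)).inv.hom

lemma toSpecΓ_baseRing (p : T ⟶ Spec (CommRingCat.of B)) :
    T.toSpecΓ ≫ Spec.map (CommRingCat.ofHom (baseRing p)) = p := by
  rw [show CommRingCat.ofHom (baseRing p) = (Scheme.ΓSpecIso (CommRingCat.of B)).inv ≫ p.appTop from rfl,
    Spec.map_comp, ← Category.assoc, ← Scheme.toSpecΓ_naturality p, Category.assoc]
  erw [← SpecMap_ΓSpecIso_hom, ← Spec.map_comp, Iso.inv_hom_id, Spec.map_id, Category.comp_id]

/-- The opens where a coordinate is invertible. -/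
abbrev chartPre (q : T ⟶ Proj (polyGrading N A)) (i : Fin (N + 1)) : T.Opens :=
  q ⁻¹ᵁ Proj.basicOpen (polyGrading N A) (X i)

lemma exists_coords (q : T ⟶ Proj (polyGrading N A)) (i : Fin (N + 1)) :
    ∃ (ρ : A →+* Γ((chartPre q i).toScheme, ⊤)) (v : Fin (N + 1) → Γ((chartPre q i).toScheme, ⊤))
      (hi : IsUnit (v i)), (chartPre q i).ι ≫ q = pt ρ v i hi := by
  let a := Proj.awayι (polyGrading N A) (X i) (X_mem i) one_pos
  let g := IsOpenImmersion.lift a ((chartPre q i).ι ≫ q) (by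
    rintro _ ⟨x, rfl⟩
    exact (Proj.opensRange_awayι (polyGrading N A) (X i) (X_mem i) one_pos).ge x.2)
  refine ⟨_, _, _, ((IsOpenImmersion.lift_fac a _ _).symm.trans
    (congrArg (fun m => g ≫ m) (awayι_eq_pt i))).trans (pt_comp g _ _ _ _)⟩

/-- Points of projective space lift along a change of base ring. -/
theorem exists_lift_baseChange (f : A →+* B) (q : T ⟶ Proj (polyGrading N A)) (p : T ⟶ Spec (CommRingCat.of B))
    (h : q ≫ baseMap N A = p ≫ Spec.map (CommRingCat.ofHom f)) :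
    ∃ w : T ⟶ Proj (polyGrading N B), w ≫ baseMap N B = p ∧ (Mono q → Mono w) := by
  choose ρ v hv hq using fun i => exists_coords q i
  let σ : ∀ i, B →+* Γ((chartPre q i).toScheme, ⊤) := fun i => baseRing ((chartPre q i).ι ≫ p)
  have hρ : ∀ i, (σ i).comp f = ρ i := fun i => by
    apply ρ_eq
    rw [CommRingCat.ofHom_comp, Spec.map_comp, ← Category.assoc, toSpecΓ_baseRing, ← pt_toSpec (ρ i) (v i) i (hv i),
      Category.assoc, ← h, ← hq]
    exact (Category.assoc _ _ _).symm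
  -- comparison of coordinates over `A`
  have cross : ∀ {S : Scheme.{u}} (i j : Fin (N + 1)) (a : S ⟶ (chartPre q i).toScheme)
      (b : S ⟶ (chartPre q j).toScheme), a ≫ (chartPre q i).ι ≫ q = b ≫ (chartPre q j).ι ≫ q →
      ∀ k l, a.appTop.hom (v i k) * b.appTop.hom (v j l) = a.appTop.hom (v i l) * b.appTop.hom (v j k) := by
    intro S i j a b hab
    rw [hq, hq, pt_comp, pt_comp] at hab
    have e : a.appTop.hom.comp (ρ i) = b.appTop.hom.comp (ρ j) := by
      apply ρ_eq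
      have := congrArg (fun m => m ≫ baseMap N A) hab
      rwa [pt_toSpec, pt_toSpec] at this
    simp only [e] at hab
    exact cross_of_pt_eq _ _ _ i j _ _ hab
  let 𝒰 : T.OpenCover := T.openCoverOfIsOpenCover (fun i : ULift.{u} (Fin (N + 1)) => chartPre q i.down)
    (TopologicalSpace.IsOpenCover.mk (by
      rw [eq_top_iff]
      intro x _
      obtain ⟨⟨i⟩, y, hy⟩ : ∃ i y, (cover N A).openCover.f i y = q x :=
        ⟨_, (cover N A).openCover.covers (q x)⟩
      refine TopologicalSpace.Opens.mem_iSup.2 ⟨⟨i⟩, ?_⟩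
      show q x ∈ Proj.basicOpen (polyGrading N A) (X i)
      rw [← hy]
      exact (Proj.opensRange_awayι (polyGrading N A) (X i) (X_mem i) one_pos).le ⟨y, rfl⟩))
  let w := 𝒰.glueMorphisms (fun i => (pt (σ i.down) (v i.down) i.down (hv i.down) : _ ⟶ Proj (polyGrading N B)))
    fun i j => by
      show pullback.fst (chartPre q i.down).ι (chartPre q j.down).ι ≫ pt _ _ _ _ =
        pullback.snd _ _ ≫ pt _ _ _ _
      rw [pt_comp, pt_comp]
      have e : (pullback.fst (chartPre q i.down).ι (chartPre q j.down).ι).appTop.hom.comp (σ i.down) =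
          (pullback.snd _ _ : _ ⟶ (chartPre q j.down).toScheme).appTop.hom.comp (σ j.down) :=
        RingHom.ext fun r => congrArg
          (fun m : pullback (chartPre q i.down).ι (chartPre q j.down).ι ⟶ T =>
            (m ≫ p).appTop.hom ((Scheme.ΓSpecIso (CommRingCat.of B)).inv.hom r)) pullback.condition
      simp only [e]
      exact pt_eq _ _ _ _ _ _ _ (cross i.down j.down _ _ (pullback.condition_assoc q))
  have hw : ∀ i, (chartPre q i).ι ≫ w = pt (σ i) (v i) i (hv i) := fun i =>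
    𝒰.ι_glueMorphisms _ _ ⟨i⟩
  refine ⟨w, 𝒰.hom_ext _ _ fun ⟨i⟩ => ?_, fun hmono => ⟨fun {S} a b hab => ?_⟩⟩
  · show (chartPre q i).ι ≫ w ≫ baseMap N B = (chartPre q i).ι ≫ p
    rw [← Category.assoc, hw]
    exact (pt_toSpec _ _ _ _).trans (toSpecΓ_baseRing _)
  · rw [← cancel_mono q]
    have hpre : ∀ i, chartPre w i = chartPre q i := fun i => by
      ext x
      obtain ⟨⟨j⟩, y, rfl⟩ : ∃ j y, 𝒰.f j y = x := ⟨_, 𝒰.covers x⟩
      show y ∈ ((chartPre q j).ι ≫ w) ⁻¹ᵁ Proj.basicOpen (polyGrading N B) (X i) ↔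
        y ∈ ((chartPre q j).ι ≫ q) ⁻¹ᵁ Proj.basicOpen (polyGrading N A) (X i)
      rw [hw, hq, pt_preimage, pt_preimage]
    refine (S.openCoverOfIsOpenCover (fun i : ULift.{u} (Fin (N + 1)) => a ⁻¹ᵁ chartPre q i.down)
      (TopologicalSpace.IsOpenCover.mk (eq_top_iff.2 fun s _ => by
        obtain ⟨i, y, hy⟩ : ∃ i y, 𝒰.f i y = a s := ⟨_, 𝒰.covers _⟩
        refine TopologicalSpace.Opens.mem_iSup.2 ⟨i, ?_⟩
        show a s ∈ chartPre q i.down
        rw [← hy]
        exact y.2))).hom_ext _ _ fun ⟨i⟩ => ?_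
    show (a ⁻¹ᵁ chartPre q i).ι ≫ a ≫ q = (a ⁻¹ᵁ chartPre q i).ι ≫ b ≫ q
    have hb : ∀ s : (a ⁻¹ᵁ chartPre q i).toScheme, b s.1 ∈ chartPre q i := fun s => by
      refine (hpre i).le ?_
      show (b ≫ w) s.1 ∈ Proj.basicOpen (polyGrading N B) (X i)
      rw [← hab]
      exact (hpre i).ge s.2
    let a₁ := IsOpenImmersion.lift (chartPre q i).ι ((a ⁻¹ᵁ chartPre q i).ι ≫ a) (by
      rintro _ ⟨s, rfl⟩; rw [Scheme.Opens.range_ι]; exact s.2)
    let b₁ := IsOpenImmersion.lift (chartPre q i).ι ((a ⁻¹ᵁ chartPre q i).ι ≫ b) (by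
      rintro _ ⟨s, rfl⟩; rw [Scheme.Opens.range_ι]; exact hb s)
    have ha₁ : a₁ ≫ (chartPre q i).ι = (a ⁻¹ᵁ chartPre q i).ι ≫ a := IsOpenImmersion.lift_fac _ _ _
    have hb₁ : b₁ ≫ (chartPre q i).ι = (a ⁻¹ᵁ chartPre q i).ι ≫ b := IsOpenImmersion.lift_fac _ _ _
    have hwab : a₁ ≫ (chartPre q i).ι ≫ w = b₁ ≫ (chartPre q i).ι ≫ w := by
      rw [reassoc_of% ha₁, reassoc_of% hb₁, hab]
    rw [hw, pt_comp, pt_comp] at hwab
    have e : a₁.appTop.hom.comp (σ i) = b₁.appTop.hom.comp (σ i) := by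
      apply ρ_eq
      have := congrArg (fun m => m ≫ baseMap N B) hwab
      rwa [pt_toSpec, pt_toSpec] at this
    simp only [e] at hwab
    rw [← reassoc_of% ha₁, ← reassoc_of% hb₁, hq, pt_comp, pt_comp]
    have e' : a₁.appTop.hom.comp (ρ i) = b₁.appTop.hom.comp (ρ i) := by
      rw [← hρ i, ← RingHom.comp_assoc, e, RingHom.comp_assoc]
    simp only [e']
    exact pt_eq _ _ _ _ _ _ _ (cross_of_pt_eq _ _ _ i i _ _ hwab)

end Groth.Agent.ChowLib
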