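import Groth.Agent.ChowLib.Coords
import Groth.Agent.GrpSch.Homogeneous
import Groth.Agent.FpqcDescent.ReducedSub
import Mathlib.AlgebraicGeometry.ZariskisMainTheorem

/-!
# Chow's lemma for integral schemes over an affine base
-/

noncomputable section

universe u

open CategoryTheory CategoryTheory.Limits AlgebraicGeometry CohB1 TopologicalSpace

namespace Groth.Agent.ChowLib

lemma isDominant_of_generic {X Y : Scheme.{u}} (f : X ⟶ Y) [IrreducibleSpace Y] (x : X)
    (h : IsGenericPoint (f x) (Set.univ : Set Y)) : IsDominant f :=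
  ⟨dense_iff_closure_eq.2 (Set.eq_univ_of_univ_subset
    (h.def ▸ closure_mono (Set.singleton_subset_iff.2 ⟨x, rfl⟩)))⟩

/-- Chow's lemma for an integral scheme, separated of finite type over an affine base. -/
theorem exists_chow {A : Type u} [CommRing A] {Z : Scheme.{u}} [IsIntegral Z]
    (f : Z ⟶ Spec (CommRingCat.of A)) [IsSeparated f] [LocallyOfFiniteType f] [QuasiCompact f] :
    ∃ (N : ℕ) (X' : Scheme.{u}) (π : X' ⟶ Z) (q : X' ⟶ ProjSpace N A) (U : Z.Opens),
      IsIntegral X' ∧ IsProper π ∧ Surjective π ∧ q ≫ ProjSpace.toSpec N A = π ≫ f ∧ Mono q ∧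
        (U : Set Z).Nonempty ∧ IsIso (π ∣_ U) ∧ LocallyOfFiniteType q ∧
        (IsProper f → IsClosedImmersion q) := by
  classical
  haveI : CompactSpace Z := QuasiCompact.compactSpace_of_compactSpace f
  haveI : Z.IsSeparated := ⟨by
    rw [show terminal.from Z = f ≫ terminal.from _ from terminal.hom_ext _ _]
    infer_instance⟩
  choose V hV hzV _ using fun z : Z =>
    Opens.isBasis_iff_nbhd.1 Z.isBasis_affineOpens (U := ⊤) (Opens.mem_top z)
  obtain ⟨t, ht⟩ := CompactSpace.isCompact_univ.elim_finite_subcover (fun z => (V z : Set Z))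
    (fun z => (V z).2) (fun z _ => Set.mem_iUnion.2 ⟨z, hzV z⟩)
  let k := t.card
  let pt' : Fin k → Z := fun l => (t.equivFin.symm l).1
  let W : Fin k → Z.Opens := fun l => V (pt' l)
  have hW : ∀ z, ∃ l, z ∈ W l := fun z => by
    obtain ⟨y, hy, hzy⟩ := Set.mem_iUnion₂.1 (ht (Set.mem_univ z))
    exact ⟨t.equivFin ⟨y, hy⟩, by simpa [W, pt'] using hzy⟩
  have hgen : ∀ O : Z.Opens, (O : Set Z).Nonempty → genericPoint Z ∈ O := fun O ⟨y, hy⟩ =>
    (genericPoint_specializes y).mem_open O.2 hy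
  let U : Z.Opens := ⟨⋂ l, (W l : Set Z), isOpen_iInter_of_finite fun l => (W l).2⟩
  have hηU : genericPoint Z ∈ U := Set.mem_iInter.2 fun l => hgen _ ⟨_, hzV (pt' l)⟩
  have hUW : ∀ l, U ≤ W l := fun l z hz => Set.mem_iInter.1 hz l
  haveI : Nonempty (U : Scheme.{u}) := ⟨⟨_, hηU⟩⟩
  haveI : IsIntegral (U : Scheme.{u}) := isIntegral_of_isOpenImmersion U.ι
  have hcharts : ∀ l, ∃ (n : ℕ) (φ : (W l).toScheme ⟶ ProjSpace n A)
      (c : (W l).toScheme ⟶ (chartOpen A n).toScheme),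
      φ ≫ ProjSpace.toSpec n A = (W l).ι ≫ f ∧ IsClosedImmersion c ∧
      c ≫ (chartOpen A n).ι = φ := fun l => by
    haveI : IsAffine (W l) := hV _
    exact exists_chart ((W l).ι ≫ f)
  choose m φ c hφ hc hcφ using hcharts
  haveI : ∀ n : ℕ, IsSeparated (ProjSpace.toSpec n A) := fun n =>
    haveI : IsProper (ProjSpace.toSpec n A) := ProjCoord.isProper_baseMap (n := n) (R := A)
    inferInstance
  haveI : ∀ n : ℕ, (ProjSpace n A).IsSeparated := fun n =>
    inferInstanceAs (Scheme.IsSeparated (Proj (polyGrading n A)))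
  obtain ⟨N, Q, e, pr, G, he, hpr, hG, hg⟩ := exists_prod k m (U.ι ≫ f)
    (fun l => Z.homOfLE (hUW l) ≫ φ l) fun l => by
      rw [Category.assoc, hφ, ← Category.assoc, Scheme.homOfLE_ι]
  let b := e ≫ ProjSpace.toSpec N A
  haveI hb : IsProper b := by
    haveI : IsProper (ProjSpace.toSpec N A) := ProjCoord.isProper_baseMap (n := N) (R := A)
    infer_instance
  let h : (U : Scheme.{u}) ⟶ pullback f b := pullback.lift U.ι G hg.symm
  let C : Closeds (pullback f b : Scheme.{u}) := ⟨closure {h ⟨_, hηU⟩}, isClosed_closure⟩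
  let I := Scheme.IdealSheafData.vanishingIdeal C
  let X' := I.subscheme
  let ι := I.subschemeι
  have hr : Set.range ι = (C : Set (pullback f b : Scheme.{u})) := by
    rw [Scheme.IdealSheafData.range_subschemeι, Scheme.IdealSheafData.coe_support_vanishingIdeal]
  haveI hirr : IrreducibleSpace X' := by
    let hh := ι.isClosedEmbedding.isEmbedding.toHomeomorph
    haveI : IrreducibleSpace (Set.range ι) :=
      Subtype.irreducibleSpace (hr ▸ isIrreducible_singleton.closure)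
    exact hh.symm.surjective.irreducibleSpace hh.symm.continuous
  haveI : IsReduced X' := inferInstance
  haveI hint : IsIntegral X' := isIntegral_of_irreducibleSpace_of_isReduced _
  have hspec : ∀ u : (U : Scheme.{u}), (⟨_, hηU⟩ : (U : Scheme.{u})) ⤳ u := fun u =>
    U.ι.isOpenEmbedding.isInducing.specializes_iff.1 (genericPoint_specializes (U.ι u))
  obtain ⟨h', hh'⟩ := Groth.Agent.GrpSch.exists_lift_of_isImmersion ι h (by
    rw [hr]
    rintro _ ⟨u, rfl⟩
    exact ((hspec u).map h.continuous).mem_closure)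
  let η' : X' := h' ⟨_, hηU⟩
  have hη' : IsGenericPoint η' (Set.univ : Set X') := by
    refine Set.eq_univ_of_forall fun x => ?_
    rw [← specializes_iff_mem_closure, ← ι.isClosedEmbedding.isInducing.specializes_iff,
      show ι η' = h ⟨_, hηU⟩ from by rw [← hh']; rfl, specializes_iff_mem_closure]
    exact (hr.le ⟨x, rfl⟩)
  let π : X' ⟶ Z := ι ≫ pullback.fst f b
  let p : X' ⟶ Q := ι ≫ pullback.snd f b
  have hπ : h' ≫ π = U.ι := by rw [← Category.assoc, hh']; exact pullback.lift_fst _ _ _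
  have hp : h' ≫ p = G := by rw [← Category.assoc, hh']; exact pullback.lift_snd _ _ _
  haveI : IsProper π := inferInstanceAs (IsProper (ι ≫ pullback.fst f b))
  have hηπ : π η' = genericPoint Z := congrArg (fun g : (U : Scheme.{u}) ⟶ Z => g ⟨_, hηU⟩) hπ
  haveI : Surjective π := ⟨fun z => by
    have h1 : π η' ∈ Set.range π := ⟨η', rfl⟩
    rw [hηπ] at h1
    exact (genericPoint_specializes z).mem_closed π.isClosedMap.isClosed_range h1⟩
  -- restrictions of the inclusion of `U` are dominant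
  have hdom : ∀ O : X'.Opens, η' ∈ O → IrreducibleSpace (O : Scheme.{u}) →
      ∀ (hO : ∀ u, h' u ∈ O), IsDominant (IsOpenImmersion.lift O.ι h' (by
        rintro _ ⟨u, rfl⟩; rw [Scheme.Opens.range_ι]; exact hO u)) := fun O hηO _ hO => by
    refine isDominant_of_generic _ ⟨_, hηU⟩ ?_
    refine Set.eq_univ_of_forall fun x => ?_
    rw [← specializes_iff_mem_closure, ← O.ι.isOpenEmbedding.isInducing.specializes_iff,
      ← Scheme.Hom.comp_apply, IsOpenImmersion.lift_fac]
    exact specializes_iff_mem_closure.2 (hη'.def.ge trivial)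
  let B : ∀ l, (ProjSpace (m l) A).Opens := fun l => chartOpen A (m l)
  have hBU : ∀ l u, (Z.homOfLE (hUW l) ≫ φ l) u ∈ B l := fun l u => by
    rw [← hcφ l]
    exact (c l ((Z.homOfLE (hUW l)) u)).2
  let O : Fin k → X'.Opens := fun l => (p ≫ pr l) ⁻¹ᵁ B l
  have hO : ∀ l u, h' u ∈ O l := fun l u => by
    show (p ≫ pr l) (h' u) ∈ B l
    rw [← Scheme.Hom.comp_apply, reassoc_of% hp, hG]
    exact hBU l u
  have hOint : ∀ l, IsIntegral (O l : Scheme.{u}) := fun l => by
    haveI : Nonempty (O l : Scheme.{u}) := ⟨⟨η', hO l _⟩⟩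
    exact isIntegral_of_isOpenImmersion (O l).ι
  have key : ∀ l, ∃ z : (O l : Scheme.{u}) ⟶ (W l : Scheme.{u}),
      z ≫ φ l = (O l).ι ≫ p ≫ pr l ∧ z ≫ (W l).ι = (O l).ι ≫ π := fun l => by
    haveI := hOint l
    let hl := IsOpenImmersion.lift (O l).ι h' (by
      rintro _ ⟨u, rfl⟩; rw [Scheme.Opens.range_ι]; exact hO l u)
    have hl' : hl ≫ (O l).ι = h' := IsOpenImmersion.lift_fac _ _ _
    haveI : IsDominant hl := hdom (O l) (hO l _) inferInstance (hO l)
    let cl := IsOpenImmersion.lift (B l).ι ((O l).ι ≫ p ≫ pr l) (by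
      rintro _ ⟨x, rfl⟩; rw [Scheme.Opens.range_ι]; exact x.2)
    have hcl : cl ≫ (B l).ι = (O l).ι ≫ p ≫ pr l := IsOpenImmersion.lift_fac _ _ _
    have hcl' : hl ≫ cl = Z.homOfLE (hUW l) ≫ c l := by
      rw [← cancel_mono (B l).ι, Category.assoc, hcl, reassoc_of% hl', reassoc_of% hp, hG,
        Category.assoc, hcφ]
    haveI := hc l
    obtain ⟨z, hz⟩ := Groth.Agent.GrpSch.exists_lift_of_isImmersion (c l) cl (by
      have h1 : Set.range cl ⊆ closure (Set.range (cl ∘ hl)) := by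
        rw [Set.range_comp]
        refine Set.image_univ.symm.subset.trans ?_
        rw [← hl.denseRange.closure_range]
        exact image_closure_subset_closure_image cl.continuous
      refine h1.trans ((c l).isClosedEmbedding.isClosed_range.closure_subset_iff.2 ?_)
      rintro _ ⟨u, rfl⟩
      rw [Function.comp_apply, ← Scheme.Hom.comp_apply, hcl', Scheme.Hom.comp_apply]
      exact ⟨_, rfl⟩)
    refine ⟨z, by rw [← hcφ l, reassoc_of% hz]; exact hcl, ?_⟩
    refine ext_of_isDominant hl ?_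
    have hzl : hl ≫ z = Z.homOfLE (hUW l) := by
      rw [← cancel_mono (c l), Category.assoc, hz, hcl']
    rw [reassoc_of% hzl, reassoc_of% hl', hπ, Scheme.homOfLE_ι]
  choose z hzφ hzπ using key
  have hcov : ∀ x : X', ∃ l, x ∈ O l := fun x => by
    obtain ⟨l, hl⟩ := hW (π x)
    refine ⟨l, ?_⟩
    let O' := π ⁻¹ᵁ W l
    have hO' : ∀ u, h' u ∈ O' := fun u => by
      show π (h' u) ∈ W l
      rw [← Scheme.Hom.comp_apply, hπ]
      exact hUW l u.2
    haveI : Nonempty (O' : Scheme.{u}) := ⟨⟨η', hO' _⟩⟩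
    haveI : IsIntegral (O' : Scheme.{u}) := isIntegral_of_isOpenImmersion O'.ι
    have hr' : Set.range h' ⊆ Set.range O'.ι := by
      rintro _ ⟨u, rfl⟩; rw [Scheme.Opens.range_ι]; exact hO' u
    haveI : IsDominant (IsOpenImmersion.lift O'.ι h' hr') := hdom O' (hO' _) inferInstance hO'
    have heq : (π ∣_ W l) ≫ φ l = O'.ι ≫ p ≫ pr l := by
      refine ext_of_isDominant (IsOpenImmersion.lift O'.ι h' hr') ?_
      rw [IsOpenImmersion.lift_fac_assoc, reassoc_of% hp, hG, ← Category.assoc]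
      congr 1
      simp only [← cancel_mono (W l).ι, Category.assoc, morphismRestrict_ι, Scheme.homOfLE_ι]
      exact (IsOpenImmersion.lift_fac_assoc _ _ _ π).trans hπ
    show (p ≫ pr l) x ∈ B l
    rw [show (p ≫ pr l) x = (O'.ι ≫ p ≫ pr l) ⟨x, hl⟩ from rfl, ← heq, ← hcφ l]
    exact ((π ∣_ W l) ≫ c l) ⟨x, hl⟩ |>.2
  haveI hpm : Mono p := ⟨fun {T} a b' hab => by
    refine (T.openCoverOfIsOpenCover (fun l => a ⁻¹ᵁ O l) (TopologicalSpace.IsOpenCover.mk
      (eq_top_iff.2 fun x _ => Opens.mem_iSup.2 (hcov (a x))))).hom_ext _ _ fun l => ?_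
    show (a ⁻¹ᵁ O l).ι ≫ a = (a ⁻¹ᵁ O l).ι ≫ b'
    have hb' : ∀ x : (a ⁻¹ᵁ O l : Scheme.{u}), b' x.1 ∈ O l := fun x => by
      show (b' ≫ p ≫ pr l) x.1 ∈ B l
      rw [← reassoc_of% hab]
      exact x.2
    let a₁ := IsOpenImmersion.lift (O l).ι ((a ⁻¹ᵁ O l).ι ≫ a) (by
      rintro _ ⟨x, rfl⟩; rw [Scheme.Opens.range_ι]; exact x.2)
    let b₁ := IsOpenImmersion.lift (O l).ι ((a ⁻¹ᵁ O l).ι ≫ b') (by
      rintro _ ⟨x, rfl⟩; rw [Scheme.Opens.range_ι]; exact hb' x)
    have ha₁ : a₁ ≫ (O l).ι = (a ⁻¹ᵁ O l).ι ≫ a := IsOpenImmersion.lift_fac _ _ _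
    have hb₁ : b₁ ≫ (O l).ι = (a ⁻¹ᵁ O l).ι ≫ b' := IsOpenImmersion.lift_fac _ _ _
    haveI : Mono (φ l) := by
      haveI := hc l
      rw [← hcφ l]
      infer_instance
    have hz : a₁ ≫ z l = b₁ ≫ z l := by
      rw [← cancel_mono (φ l), Category.assoc, Category.assoc, hzφ, reassoc_of% ha₁,
        reassoc_of% hb₁, reassoc_of% hab]
    rw [← cancel_mono ι]
    apply pullback.hom_ext
    · simp only [Category.assoc]
      show (a ⁻¹ᵁ O l).ι ≫ a ≫ π = (a ⁻¹ᵁ O l).ι ≫ b' ≫ π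
      rw [← reassoc_of% ha₁, ← reassoc_of% hb₁, ← hzπ, reassoc_of% hz]
    · simp only [Category.assoc]
      show (a ⁻¹ᵁ O l).ι ≫ a ≫ p = (a ⁻¹ᵁ O l).ι ≫ b' ≫ p
      rw [hab]⟩
  refine ⟨N, X', π, p ≫ e, U, hint, inferInstance, inferInstance, ?_, mono_comp p e,
    ⟨_, hηU⟩, ?_, ?_, fun hf => ?_⟩
  · simp only [π, p, Category.assoc]
    rw [pullback.condition]
  · -- over `U` the morphism is an isomorphism
    have hO' : ∀ u, h' u ∈ π ⁻¹ᵁ U := fun u => by
      show π (h' u) ∈ U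
      rw [← Scheme.Hom.comp_apply, hπ]
      exact u.2
    haveI : Nonempty (π ⁻¹ᵁ U : Scheme.{u}) := ⟨⟨η', hO' _⟩⟩
    haveI : IsIntegral (π ⁻¹ᵁ U : Scheme.{u}) := isIntegral_of_isOpenImmersion (π ⁻¹ᵁ U).ι
    haveI := hdom (π ⁻¹ᵁ U) (hO' _) inferInstance hO'
    let s := IsOpenImmersion.lift (π ⁻¹ᵁ U).ι h' (by
      rintro _ ⟨u, rfl⟩; rw [Scheme.Opens.range_ι]; exact hO' u)
    have hs : s ≫ (π ∣_ U) = 𝟙 _ := by
      rw [← cancel_mono U.ι, Category.assoc, morphismRestrict_ι, IsOpenImmersion.lift_fac_assoc, hπ,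
        Category.id_comp]
    haveI : (pullback f b).IsSeparated := ⟨by
      rw [show terminal.from (pullback f b) = pullback.fst f b ≫ terminal.from Z from terminal.hom_ext _ _]
      infer_instance⟩
    haveI : X'.IsSeparated := ⟨by
      rw [show terminal.from X' = ι ≫ terminal.from _ from terminal.hom_ext _ _]
      infer_instance⟩
    haveI : (π ⁻¹ᵁ U : Scheme.{u}).IsSeparated := ⟨by
      rw [show terminal.from (π ⁻¹ᵁ U : Scheme.{u}) = (π ⁻¹ᵁ U).ι ≫ terminal.from X' from terminal.hom_ext _ _]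
      infer_instance⟩
    refine ⟨s, ?_, hs⟩
    refine ext_of_isDominant s ?_
    rw [reassoc_of% hs]
    exact (Category.comp_id s).symm
  · infer_instance
  · haveI : IsProper (pullback.snd f b) := inferInstance
    haveI : IsProper p := inferInstanceAs (IsProper (ι ≫ pullback.snd f b))
    exact (IsClosedImmersion.iff_isProper_and_mono (p ≫ e)).2 ⟨inferInstance, mono_comp p e⟩

end Groth.Agent.ChowLib
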