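import Groth.Agent.ProjCoord.Segre
import Groth.Agent.ProjCoord.Extra
import Mathlib.RingTheory.FiniteType
import Mathlib.AlgebraicGeometry.Morphisms.FiniteType

/-!
# Affine schemes of finite type in projective space; products of projective schemes
-/

noncomputable section

universe u

open CategoryTheory CategoryTheory.Limits AlgebraicGeometry HomogeneousLocalization CohB1
open Groth.Agent.ProjCoord

namespace Groth.Agent.ChowLib

variable {A : Type u} [CommRing A]

variable (A) in
/-- The first standard chart. -/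
def chartOpen (n : ℕ) : (ProjSpace n A).Opens := Proj.basicOpen (polyGrading n A) (MvPolynomial.X 0)

/-- Affine schemes of finite type are closed in a standard chart of a projective space. -/
theorem exists_chart {U : Scheme.{u}} [IsAffine U] (g : U ⟶ Spec (CommRingCat.of A))
    [LocallyOfFiniteType g] :
    ∃ (n : ℕ) (φ : U ⟶ ProjSpace n A)
      (c : U ⟶ (chartOpen A n).toScheme),
      φ ≫ ProjSpace.toSpec n A = g ∧ IsClosedImmersion c ∧
      c ≫ (chartOpen A n).ι = φ := by
  have hft : (g.appTop).hom.FiniteType := HasRingHomProperty.appTop @LocallyOfFiniteType g ‹_›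
  let ρ : A →+* Γ(U, ⊤) := g.appTop.hom.comp (Scheme.ΓSpecIso (CommRingCat.of A)).inv.hom
  have hρ : ρ.FiniteType := hft.comp
    (RingHom.FiniteType.of_surjective _ (ConcreteCategory.bijective_of_isIso _).2)
  letI := ρ.toAlgebra
  haveI : Algebra.FiniteType A Γ(U, ⊤) := hρ
  obtain ⟨n, Φ, hΦ⟩ := Algebra.FiniteType.iff_quotient_mvPolynomial''.1 ‹Algebra.FiniteType A Γ(U, ⊤)›
  let v : Fin (n + 1) → Γ(U, ⊤) := Fin.cons 1 fun l => Φ (MvPolynomial.X l)
  have hv : IsUnit (v 0) := by simp [v]
  have hv' : IsUnit (MvPolynomial.eval₂Hom ρ v (MvPolynomial.X 0)) := by simpa using hv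
  let θ : Away (polyGrading n A) (MvPolynomial.X 0) →+* Γ(U, ⊤) :=
    awayEval (MvPolynomial.eval₂Hom ρ v) hv'
  have hθ : Function.Surjective θ := by
    intro y
    obtain ⟨p, rfl⟩ := hΦ y
    induction p using MvPolynomial.induction_on with
    | C a =>
      refine ⟨const 0 a, (RingHom.congr_fun (awayEval_const ρ v 0 hv') a).trans ?_⟩
      exact (Φ.commutes a).symm
    | add p q hp hq =>
      obtain ⟨a, ha⟩ := hp
      obtain ⟨b, hb⟩ := hq
      exact ⟨a + b, by rw [map_add, map_add, ha, hb]⟩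
    | mul_X p l hp =>
      obtain ⟨a, ha⟩ := hp
      have hr := awayEval_ratio ρ v 0 l.succ hv'
      simp only [v, Fin.cons_zero, mul_one, Fin.cons_succ] at hr
      exact ⟨a * ratio 0 l.succ, by rw [map_mul, map_mul, ha]; exact congrArg _ hr⟩
  haveI : IsClosedImmersion (Spec.map (CommRingCat.ofHom θ)) :=
    IsClosedImmersion.spec_of_surjective _ hθ
  let e := Proj.basicOpenIsoSpec (polyGrading n A) (MvPolynomial.X 0) (X_mem 0) one_pos
  refine ⟨n, pt ρ v 0 hv, U.toSpecΓ ≫ Spec.map (CommRingCat.ofHom θ) ≫ e.inv, ?_, ?_, ?_⟩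
  · refine (pt_toSpec ρ v 0 hv).trans ?_
    have h := Scheme.toSpecΓ_naturality g
    rw [show CommRingCat.ofHom ρ = (Scheme.ΓSpecIso (CommRingCat.of A)).inv ≫ g.appTop from rfl,
      Spec.map_comp, ← Category.assoc, ← h, Category.assoc]
    erw [← SpecMap_ΓSpecIso_hom, ← Spec.map_comp, Iso.inv_hom_id, Spec.map_id, Category.comp_id]
  · exact inferInstance
  · simp only [Category.assoc]
    rfl

/-- A product of projective schemes is projective. -/
theorem exists_prod : ∀ (k : ℕ) (m : Fin k → ℕ) {U : Scheme.{u}} (g : U ⟶ Spec (CommRingCat.of A))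
    (φ : ∀ l, U ⟶ ProjSpace (m l) A), (∀ l, φ l ≫ ProjSpace.toSpec (m l) A = g) →
    ∃ (N : ℕ) (Q : Scheme.{u}) (e : Q ⟶ ProjSpace N A) (pr : ∀ l, Q ⟶ ProjSpace (m l) A) (G : U ⟶ Q),
      IsClosedImmersion e ∧ (∀ l, pr l ≫ ProjSpace.toSpec (m l) A = e ≫ ProjSpace.toSpec N A) ∧
      (∀ l, G ≫ pr l = φ l) ∧ G ≫ e ≫ ProjSpace.toSpec N A = g := by
  intro k
  induction k with
  | zero =>
    intro m U g φ hφ
    haveI : IsIso (ProjSpace.toSpec 0 A) := isIso_baseMap_zero (R := A)
    refine ⟨0, ProjSpace 0 A, 𝟙 _, fun l => l.elim0, g ≫ inv (ProjSpace.toSpec 0 A), inferInstance,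
      fun l => l.elim0, fun l => l.elim0, by simp⟩
  | succ k ih =>
    intro m U g φ hφ
    obtain ⟨N, Q, e, pr, G, he, hpr, hG, hg⟩ := ih (fun l => m l.succ) g (fun l => φ l.succ)
      (fun l => hφ l.succ)
    obtain ⟨σ, hσ, hσt⟩ := exists_segre (n := N) (m := m 0) (R := A)
    let a := e ≫ ProjSpace.toSpec N A
    let b := ProjSpace.toSpec (m 0) A
    let E : pullback a b ⟶ pullback (ProjSpace.toSpec N A) b :=
      pullback.map a b (ProjSpace.toSpec N A) b e (𝟙 _) (𝟙 _) (by simp [a]) (by simp [b])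
    haveI : IsClosedImmersion E :=
      MorphismProperty.pullbackMap (P := @IsClosedImmersion) he (inferInstanceAs (IsClosedImmersion (𝟙 _)))
        (by simp [a]) (by simp [b])
    refine ⟨_, pullback a b, E ≫ σ, Fin.cases (pullback.snd a b) (fun l => pullback.fst a b ≫ pr l),
      pullback.lift G (φ 0) (hg.trans (hφ 0).symm), inferInstance, ?_, ?_, ?_⟩
    · refine Fin.cases ?_ fun l => ?_
      · simp only [Fin.cases_zero, Category.assoc, hσt, E]
        rw [pullback.lift_fst_assoc, Category.assoc]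
        exact pullback.condition.symm
      · simp only [Fin.cases_succ, Category.assoc, hσt, E]
        rw [pullback.lift_fst_assoc, Category.assoc, hpr]
    · refine Fin.cases ?_ fun l => ?_
      · exact pullback.lift_snd _ _ _
      · exact (pullback.lift_fst_assoc _ _ _ _).trans (hG l)
    · simp only [Category.assoc, hσt, E]
      rw [pullback.lift_fst_assoc, Category.assoc, pullback.lift_fst_assoc, hg]

end Groth.Agent.ChowLib
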